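import Groth.Agent.CommAlg4.Swan
import Groth.Agent.UPLib.SpecInv
import Mathlib.RingTheory.Localization.Integral

/-!
# Invertible modules over `A[X]` for a seminormal domain `A` are free locally on `A`
-/

set_option autoImplicit false
set_option linter.style.haveILetI false
set_option backward.isDefEq.respectTransparency.types false

universe u

open Polynomial TensorProduct
open Groth.Agent.CommAlg4.Swan
open Groth.Agent.UPLib (GenAt)

namespace Groth.Agent.PicA1S27

theorem sn_localization {A : Type u} [CommRing A] [IsDomain A] (hA : SN A) (p : Ideal A) [p.IsPrime] :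
    SN (Localization.AtPrime p) := by
  intro x y hxy
  haveI : IsDomain (Localization.AtPrime p) := IsLocalization.isDomain_localization p.primeCompl_le_nonZeroDivisors
  obtain ⟨⟨a, s⟩, ha⟩ := IsLocalization.surj p.primeCompl x
  obtain ⟨⟨b, t⟩, hb⟩ := IsLocalization.surj p.primeCompl y
  have hst : algebraMap A (Localization.AtPrime p) ((s : A) * t) ≠ 0 :=
    (IsLocalization.map_units (Localization.AtPrime p) (s * t)).ne_zero
  have e2 : algebraMap A (Localization.AtPrime p) (a * ((s : A) * t ^ 2)) = x * algebraMap A (Localization.AtPrime p) ((s : A) * t) ^ 2 := by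
    simp only [map_mul, map_pow, ← ha]; ring
  have e3 : algebraMap A (Localization.AtPrime p) (b * ((s : A) ^ 3 * t ^ 2)) = y * algebraMap A (Localization.AtPrime p) ((s : A) * t) ^ 3 := by
    simp only [map_mul, map_pow, ← hb]; ring
  have hinj : Function.Injective (algebraMap A (Localization.AtPrime p)) := IsLocalization.injective (Localization.AtPrime p) p.primeCompl_le_nonZeroDivisors
  obtain ⟨c, ⟨hc2, hc3⟩, -⟩ := hA (a * ((s : A) * t ^ 2)) (b * ((s : A) ^ 3 * t ^ 2)) (hinj (by
    rw [map_pow, map_pow, e2, e3]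
    linear_combination (algebraMap A (Localization.AtPrime p) ((s : A) * t)) ^ 6 * hxy))
  obtain ⟨v, hv⟩ := IsLocalization.map_units (Localization.AtPrime p) (s * t)
  rw [hc2, map_pow] at e2
  rw [hc3, map_pow] at e3
  simp only [Submonoid.coe_mul] at hv
  rw [← hv] at e2 e3
  refine ⟨algebraMap A (Localization.AtPrime p) c * ↑v⁻¹, ⟨?_, ?_⟩, ?_⟩
  · rw [mul_pow, e2, mul_assoc, ← mul_pow, Units.mul_inv, one_pow, mul_one]
  · rw [mul_pow, e3, mul_assoc, ← mul_pow, Units.mul_inv, one_pow, mul_one]
  · rintro d ⟨hd2, hd3⟩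
    have hw2 : (algebraMap A (Localization.AtPrime p) c * ↑v⁻¹) ^ 2 = x := by
      rw [mul_pow, e2, mul_assoc, ← mul_pow, Units.mul_inv, one_pow, mul_one]
    have hw3 : (algebraMap A (Localization.AtPrime p) c * ↑v⁻¹) ^ 3 = y := by
      rw [mul_pow, e3, mul_assoc, ← mul_pow, Units.mul_inv, one_pow, mul_one]
    generalize algebraMap A (Localization.AtPrime p) c * ↑v⁻¹ = w at hw2 hw3 ⊢
    rcases eq_or_ne x 0 with h0 | h0
    · rw [h0] at hd2 hw2
      rw [(pow_eq_zero_iff two_ne_zero).1 hd2.symm, (pow_eq_zero_iff two_ne_zero).1 hw2]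
    · refine mul_left_cancel₀ h0 ?_
      calc x * d = d ^ 2 * d := by rw [hd2]
        _ = w ^ 3 := by rw [← pow_succ, ← hd3, hw3]
        _ = x * w := by rw [← hw2]; ring

attribute [local instance] Polynomial.algebra

/-- Near every prime of a seminormal domain an invertible module over `A[X]` is free. -/
theorem exists_genAt {A : Type u} [CommRing A] [IsDomain A] (hA : SN A) (M : Type u) [AddCommGroup M]
    [Module A[X] M] [Module.Invertible A[X] M] (p : Ideal A) [p.IsPrime] :
    ∃ f ∉ p, ∃ t : M, GenAt (Submonoid.powers (C f)) t := by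
  classical
  let S := Submonoid.map (C : A →+* A[X]).toMonoidHom p.primeCompl
  haveI : IsLocalization S (Localization.AtPrime p)[X] := Polynomial.isLocalization p.primeCompl (Localization.AtPrime p)
  let g : M →ₗ[A[X]] (Localization.AtPrime p)[X] ⊗[A[X]] M := TensorProduct.mk A[X] (Localization.AtPrime p)[X] M 1
  haveI : IsLocalizedModule S g := (isLocalizedModule_iff_isBaseChange S (Localization.AtPrime p)[X] g).2 (TensorProduct.isBaseChange _ _ _)
  haveI : Module.Free (Localization.AtPrime p)[X] ((Localization.AtPrime p)[X] ⊗[A[X]] M) :=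
    free_of_invertible_polynomial (sn_localization hA p) ((Localization.AtPrime p)[X] ⊗[A[X]] M)
  obtain ⟨e⟩ := (Module.Invertible.free_iff_linearEquiv (R := (Localization.AtPrime p)[X]) (M := (Localization.AtPrime p)[X] ⊗[A[X]] M)).1 inferInstance
  obtain ⟨⟨t, s₀⟩, hs₀⟩ := IsLocalizedModule.surj S g (e.symm 1)
  have hloc : ∀ x : M, ∃ s ∈ S, ∃ a : A[X], s • x = a • t := fun x => by
    obtain ⟨⟨a, s⟩, ha⟩ := IsLocalization.surj S (e (g x))
    have hx : g x = e (g x) • e.symm 1 := by
      rw [← map_smul, smul_eq_mul, mul_one, LinearEquiv.symm_apply_apply]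
    have h1 : g ((s : A[X]) • (s₀ : A[X]) • x) = g (a • t) := by
      have hs₀' : (s₀ : A[X]) • e.symm 1 = g t := hs₀
      rw [map_smul, map_smul, map_smul, ← hs₀', hx]
      simp only [← algebraMap_smul (Localization.AtPrime p)[X] (_ : A[X]) (_ : (Localization.AtPrime p)[X] ⊗[A[X]] M), smul_smul]
      refine congrArg (· • e.symm 1) ?_
      rw [show algebraMap A[X] (Localization.AtPrime p)[X] a = e (g x) * algebraMap A[X] (Localization.AtPrime p)[X] s from ha.symm]
      ring
    obtain ⟨u, hu⟩ := (IsLocalizedModule.eq_iff_exists S g).1 h1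
    refine ⟨(u : A[X]) * (s * s₀), mul_mem u.2 (mul_mem s.2 s₀.2), (u : A[X]) * a, ?_⟩
    rw [mul_smul, mul_smul, mul_smul]
    exact hu
  obtain ⟨G, hG⟩ := (inferInstance : Module.Finite A[X] M).fg_top
  choose s hs a ha using hloc
  obtain ⟨f, hf, hfG⟩ : (∏ x ∈ G, s x) ∈ S := prod_mem fun x _ => hs x
  refine ⟨f, hf, t, ⟨fun x => ⟨C f, Submonoid.mem_powers _, ?_⟩, fun b hb => ?_⟩⟩
  · have hfG' : C f = ∏ x ∈ G, s x := hfG
    have hx : x ∈ Submodule.span A[X] (G : Set M) := by rw [hG]; trivial
    induction hx using Submodule.span_induction with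
    | mem y hy =>
      refine ⟨(∏ z ∈ G.erase y, s z) * a y, ?_⟩
      rw [hfG', ← Finset.prod_erase_mul _ _ hy, mul_smul, ha, smul_smul]
    | zero => exact ⟨0, by simp⟩
    | add y z _ _ hy hz =>
      obtain ⟨b, hb⟩ := hy
      obtain ⟨c, hc⟩ := hz
      exact ⟨b + c, by rw [smul_add, hb, hc, add_smul]⟩
    | smul r y _ hy =>
      obtain ⟨b, hb⟩ := hy
      exact ⟨r * b, by rw [smul_comm, hb, smul_smul]⟩
  · have h0 := congrArg g hb
    have hs₀' : (s₀ : A[X]) • e.symm 1 = g t := hs₀
    rw [map_smul, map_zero, ← hs₀'] at h0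
    have h1 := congrArg e h0
    simp only [← algebraMap_smul (Localization.AtPrime p)[X] (_ : A[X]) (_ : (Localization.AtPrime p)[X] ⊗[A[X]] M), map_smul, map_zero, LinearEquiv.apply_symm_apply,
      smul_eq_mul, mul_one] at h1
    rw [(IsLocalization.map_units (Localization.AtPrime p)[X] s₀).mul_left_eq_zero] at h1
    refine ⟨1, one_mem _, ?_⟩
    rw [one_mul]
    exact IsLocalization.injective (Localization.AtPrime p)[X] (M := S) (by
      rintro _ ⟨c, hc, rfl⟩
      exact mem_nonZeroDivisors_of_ne_zero (C_ne_zero.2 fun h => hc (h ▸ p.zero_mem))) (h1.trans (map_zero _).symm)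

end Groth.Agent.PicA1S27
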