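import Groth.Agent.PicA1S27.Algebra
import Groth.Agent.PicNormal23.Affine
import Groth.Agent.PicNormal23.Section
import Groth.Agent.DualLib.DualUnique
import Groth.Agent.PicLib.PicGroup
import Groth.Agent.PicLib.CocycleGlue
import Groth.Agent.AmpleLib.Compose
import Groth.Agent.AmpleLib.Power
import Groth.Prelude.Def_HTop2
import Mathlib.Algebra.MvPolynomial.Equiv

/-!
# The Picard group of the affine line over a seminormal variety
-/

set_option autoImplicit false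
set_option linter.style.haveILetI false
set_option backward.isDefEq.respectTransparency.types false
set_option maxHeartbeats 1000000

universe u

open CategoryTheory CategoryTheory.Limits AlgebraicGeometry TopologicalSpace Opposite
open Groth.Agent.Coherent Groth.Agent.PicLib Groth.Agent.AmpleLib
open Groth.Agent.UPLib (GenAt)

noncomputable section

namespace Groth.Agent.PicA1S27

/-- Sections of an invertible module on a Noetherian affine scheme form an invertible module. -/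
theorem invertible_sections {R : CommRingCat.{u}} [IsNoetherianRing R] (L : (Spec R).Modules)
    (hL : PicF.IsInvertible L) : Module.Invertible R Γ(L, ⊤) := by
  haveI := isQCoh_of_isInvertible hL
  have key : ∀ x : Spec R, ∃ a : Γ(L, ⊤), x ∈ glocus L a := by
    intro x
    obtain ⟨O, hxO, s, hs⟩ := exists_isGen hL x
    obtain ⟨_, ⟨g, rfl⟩, hxg, hle⟩ := Opens.isBasis_iff_nbhd.1 PrimeSpectrum.isBasis_basic_opens hxO
    obtain ⟨n, a, ha⟩ := spec_exists_pow_smul L g (resM L hle s)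
    refine ⟨a, ((le_glocus_iff a _).2 ?_ : specBasicOpen g ≤ glocus L a) hxg⟩
    rw [ha, ← algebraMap_smul Γ(Spec R, specBasicOpen g) (g ^ n), isGen_smul_iff]
    · exact hs.restrict hle
    · rw [map_pow]; exact (IsLocalization.Away.algebraMap_isUnit g).pow n
  choose a ha using key
  haveI : Module.Finite R Γ(L, ⊤) := by
    obtain ⟨G, hG⟩ := (inferInstance : CompactSpace (Spec R)).isCompact_univ.elim_finite_subcover
      (fun x => (glocus L (a x) : Set (Spec R))) (fun x => (glocus L (a x)).isOpen)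
      fun x _ => Set.mem_iUnion.2 ⟨x, ha x⟩
    refine ⟨Submodule.fg_def.2 ⟨Set.range fun x : G => a x.1, Set.finite_range _, ?_⟩⟩
    refine UPLib.span_eq_top_of_cover _ fun y => ?_
    obtain ⟨x, hx, hy⟩ := Set.mem_iUnion₂.1 (hG (Set.mem_univ y))
    exact ⟨⟨x, hx⟩, hy⟩
  refine DualLib.Unique.invertible_of_local_gen (A := R) Γ(L, ⊤) fun m hm => ?_
  obtain ⟨i, f, hf, hgen⟩ := UPLib.exists_genAt_of_cover a (fun x => ⟨x, ha x⟩) ⟨m, hm.isPrime⟩
  have hp : ∀ n : ℕ, f ^ n ∉ m := fun n h => hf (hm.isPrime.mem_of_pow_mem n h)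
  refine ⟨a i, fun y => ?_, fun b hb => ?_⟩
  · obtain ⟨_, ⟨n, rfl⟩, c, hc⟩ := hgen.surj y
    exact ⟨f ^ n, hp n, c, hc⟩
  · obtain ⟨_, ⟨n, rfl⟩, hc⟩ := hgen.inj b hb
    exact ⟨f ^ n, hp n, hc⟩

variable {X P : Scheme.{u}} (π : P ⟶ X) (σ : X ⟶ P) (hσ : σ ≫ π = 𝟙 X)

include hσ in
theorem app_injective (Z : X.Opens) : Function.Injective (π.app Z) := fun a b h => by
  refine TopCat.Presheaf.section_ext X.sheaf Z a b fun x hx => ?_
  have hx' : x ∈ σ ⁻¹ᵁ (π ⁻¹ᵁ Z) := by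
    show (σ ≫ π) x ∈ Z
    rw [hσ]; exact hx
  have := congrArg (fun r => X.presheaf.germ _ x hx' (σ.app _ r)) h
  simp only [PicNormal23.germ_app_retract σ π hσ Z _ hx hx'] at this
  exact this

include hσ in
/-- Descent along a retraction with constant units. -/
theorem exists_pull_eq {L : P.Modules} (hL : PicF.IsInvertible L)
    (hloc : ∀ x : X, ∃ V : X.Opens, x ∈ V ∧ ∃ s : Γ(L, π ⁻¹ᵁ V), IsGen L (π ⁻¹ᵁ V) s)
    (hunit : ∀ (Z : X.Opens) (u : Γ(P, π ⁻¹ᵁ Z)), IsUnit u → ∃ a, π.app Z a = u) :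
    ∃ c : PicM X, PicM.pull π c = PicM.of hL := by
  choose V hxV s hs using hloc
  have hcov : ⨆ a, V a = ⊤ := top_le_iff.1 fun x _ => Opens.mem_iSup.2 ⟨x, hxV x⟩
  let θ : ∀ a b, Γ(P, π ⁻¹ᵁ (V a ⊓ V b)) := fun a b =>
    (hs b).coef (π.preimage_mono inf_le_right) (resM L (π.preimage_mono inf_le_left) (s a))
  have hθ : ∀ a b, θ a b • resM L (π.preimage_mono (inf_le_right : V a ⊓ V b ≤ V b)) (s b) =
      resM L (π.preimage_mono inf_le_left) (s a) := fun a b => (hs b).coef_spec _ _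
  have hθu : ∀ a b, IsUnit (θ a b) := fun a b => by
    have h := ((hs b).restrict (π.preimage_mono (inf_le_right : V a ⊓ V b ≤ V b))).isUnit_coef
      ((hs a).restrict (π.preimage_mono (inf_le_left : V a ⊓ V b ≤ V a)))
    rwa [IsGen.coef_eq _ le_rfl (r := θ a b) (by rw [resM_self]; exact hθ a b)] at h
  choose η hη using fun a b => hunit _ (θ a b) (hθu a b)
  have hηu : ∀ a b, IsUnit (η a b) := fun a b => by
    refine X.toRingedSpace.isUnit_of_isUnit_germ _ _ fun x hx => ?_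
    have hx' : x ∈ σ ⁻¹ᵁ (π ⁻¹ᵁ (V a ⊓ V b)) := by
      show (σ ≫ π) x ∈ V a ⊓ V b
      rw [hσ]; exact hx
    show IsUnit (X.presheaf.germ _ x hx (η a b))
    rw [← PicNormal23.germ_app_retract σ π hσ _ _ hx hx', hη]
    exact ((hθu a b).map _).map _
  obtain ⟨M, t, hM, ht, htη⟩ := CocycleGlue.exists_invertible V (fun a b => (hηu a b).unit)
    (fun x a b c => by
      have hx : x ∈ V a.1 ⊓ V b.1 ⊓ V c.1 := ⟨⟨a.2, b.2⟩, c.2⟩
      have ha : V a.1 ⊓ V b.1 ⊓ V c.1 ≤ V a.1 := inf_le_left.trans inf_le_left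
      have hb : V a.1 ⊓ V b.1 ⊓ V c.1 ≤ V b.1 := inf_le_left.trans inf_le_right
      have hc : V a.1 ⊓ V b.1 ⊓ V c.1 ≤ V c.1 := inf_le_right
      show X.presheaf.germ _ x _ (η _ _) = X.presheaf.germ _ x _ (η _ _) * X.presheaf.germ _ x _ (η _ _)
      rw [← VarietyLib.StarGlue.germ_resO (le_inf ha hc) hx,
        ← VarietyLib.StarGlue.germ_resO (le_inf ha hb) hx,
        ← VarietyLib.StarGlue.germ_resO (le_inf hb hc) hx, ← map_mul]
      refine congrArg _ (app_injective π σ hσ _ ?_)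
      have hres : ∀ {U W : X.Opens} (h : W ≤ U) (r : Γ(X, U)),
          π.app W (PicLib.res h r) = PicLib.res (π.preimage_mono h) (π.app U r) :=
        fun h r => ConcreteCategory.congr_hom (π.naturality (homOfLE h).op) r
      rw [map_mul, hres, hres, hres, hη, hη, hη]
      refine ((hs c.1).restrict (π.preimage_mono hc) _ le_rfl).1 ?_
      show _ • resM _ le_rfl _ = _ • resM _ le_rfl _
      rw [resM_self, mul_smul]
      have e1 := congrArg (resM L (π.preimage_mono (le_inf ha hc))) (hθ a.1 c.1)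
      have e2 := congrArg (resM L (π.preimage_mono (le_inf ha hb))) (hθ a.1 b.1)
      have e3 := congrArg (resM L (π.preimage_mono (le_inf hb hc))) (hθ b.1 c.1)
      rw [resM_smul, resM_resM, resM_resM] at e1 e2 e3
      rw [e1, e3, e2]) hcov
  refine ⟨PicM.of hM, ?_⟩
  rw [PicM.pull_of, PicM.of_eq_iff]
  have hcov' : ⨆ a, π ⁻¹ᵁ V a = ⊤ := top_le_iff.1 fun z _ => Opens.mem_iSup.2 ⟨π z, hxV (π z)⟩
  let N := (Scheme.Modules.pullback π).obj M
  let t' : ∀ a, Γ(N, π ⁻¹ᵁ V a) := fun a => pullSec π (t a)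
  have ht' : ∀ a, IsGen N _ (t' a) := fun a => isGen_pullSec π (ht a) hM
  obtain ⟨e, -⟩ := exists_iso_of_gens (fun a => π ⁻¹ᵁ V a) hcov' t' ht' s hs (fun a b Z hi hj c hc => by
    have hZ : Z ≤ π ⁻¹ᵁ (V a ⊓ V b) := fun z hz => ⟨hi hz, hj hz⟩
    have h0 := congrArg (pullSec π) (htη a b)
    rw [show (((hηu a b).unit : Γ(X, V a ⊓ V b)ˣ) : Γ(X, V a ⊓ V b)) = η a b from rfl] at h0
    erw [pullSec_smul, hη, ← resM_pullSec π, ← resM_pullSec π] at h0
    have h1 := congrArg (resM N hZ) h0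
    erw [resM_smul, resM_resM, resM_resM] at h1
    have hc' := ((ht' b) Z hj).1 (hc.symm.trans h1)
    have h := congrArg (resM L hZ) (hθ a b)
    rw [resM_smul, resM_resM, resM_resM] at h
    rw [hc', h])
  exact ⟨e⟩

/-- A chart of the affine line over an affine open. -/
theorem exists_chart_polynomial {V : X.Opens} (hV : IsAffineOpen V) :
    ∃ (j : Spec (CommRingCat.of (Polynomial Γ(X, V))) ⟶ 𝔸(PUnit.{u + 1}; X)) (_ : IsOpenImmersion j),
      j ≫ (𝔸(PUnit.{u + 1}; X) ↘ X) = Spec.map (CommRingCat.ofHom Polynomial.C) ≫ hV.fromSpec ∧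
      j.opensRange = (𝔸(PUnit.{u + 1}; X) ↘ X) ⁻¹ᵁ V := by
  obtain ⟨j, _, hj, hj'⟩ := PicNormal23.exists_chart PUnit.{u + 1} hV
  let e := (MvPolynomial.pUnitAlgEquiv.{u, u} Γ(X, V)).toRingEquiv.toCommRingCatIso
  refine ⟨Spec.map e.hom ≫ j, inferInstance, ?_, ?_⟩
  · rw [Category.assoc, hj, ← Category.assoc, ← Spec.map_comp]
    refine congrArg (fun φ => Spec.map φ ≫ hV.fromSpec) (CommRingCat.hom_ext (RingHom.ext fun a => ?_))
    exact (MvPolynomial.pUnitAlgEquiv.{u, u} Γ(X, V)).commutes a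
  · refine le_antisymm ?_ fun x hx => ?_
    · rintro _ ⟨Q, rfl⟩
      show (Spec.map e.hom ≫ j ≫ (𝔸(PUnit.{u + 1}; X) ↘ X)) Q ∈ V
      rw [hj]
      exact hV.range_fromSpec.le ⟨_, rfl⟩
    · obtain ⟨Q, rfl⟩ := hj' x hx
      refine ⟨Spec.map e.inv Q, ?_⟩
      show j (Spec.map e.hom (Spec.map e.inv Q)) = j Q
      rw [← Scheme.Hom.comp_apply (Spec.map e.inv), ← Spec.map_comp, e.hom_inv_id, Spec.map_id]
      rfl

variable [IsIntegral X]

/-- Units on the affine line over an integral scheme are constant. -/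
theorem exists_app_eq_of_isUnit (σ : X ⟶ 𝔸(PUnit.{u + 1}; X)) (hσ : σ ≫ (𝔸(PUnit.{u + 1}; X) ↘ X) = 𝟙 X)
    (Z : X.Opens) (u : Γ(𝔸(PUnit.{u + 1}; X), (𝔸(PUnit.{u + 1}; X) ↘ X) ⁻¹ᵁ Z)) (hu : IsUnit u) :
    ∃ a, (𝔸(PUnit.{u + 1}; X) ↘ X).app Z a = u := by
  let π := 𝔸(PUnit.{u + 1}; X) ↘ X
  have hres : ∀ {U W : X.Opens} (h : W ≤ U) (r : Γ(X, U)),
      π.app W (PicLib.res h r) = PicLib.res (π.preimage_mono h) (π.app U r) :=
    fun h r => ConcreteCategory.congr_hom (π.naturality (homOfLE h).op) r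
  have haff : ∀ (W : X.Opens), IsAffineOpen W → (W : Set X).Nonempty → ∀ v : Γ(𝔸(PUnit.{u + 1}; X), π ⁻¹ᵁ W),
      IsUnit v → ∃ a, π.app W a = v := by
    intro W hW hne v hv
    haveI : Nonempty W := ⟨⟨_, hne.choose_spec⟩⟩
    obtain ⟨j, _, hj, hjr⟩ := exists_chart_polynomial (X := X) hW
    have hle : (⊤ : (Spec (CommRingCat.of (Polynomial Γ(X, W)))).Opens) ≤ j ⁻¹ᵁ (π ⁻¹ᵁ W) :=
      fun Q _ => hjr.le ⟨Q, rfl⟩
    have hjinj : Function.Injective (j.appLE (π ⁻¹ᵁ W) ⊤ hle) := by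
      haveI := j.isIso_app (π ⁻¹ᵁ W) hjr.ge
      intro a b hab
      rw [Scheme.Hom.appLE, ConcreteCategory.comp_apply, ConcreteCategory.comp_apply] at hab
      exact (ConcreteCategory.bijective_of_isIso (j.app (π ⁻¹ᵁ W))).1
        ((ConcreteCategory.bijective_of_isIso ((Spec _).presheaf.map
          (eqToHom (le_antisymm le_top hle).symm).op)).1 hab)
    obtain ⟨a, -, ha⟩ := Polynomial.isUnit_iff.1
      ((hv.map (j.appLE (π ⁻¹ᵁ W) ⊤ hle).hom).map (Scheme.ΓSpecIso (CommRingCat.of (Polynomial Γ(X, W)))).hom.hom)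
    refine ⟨a, hjinj ((ConcreteCategory.bijective_of_isIso (Scheme.ΓSpecIso _).hom).1 (Eq.trans ?_ ha))⟩
    have h1 : π.app W ≫ j.appLE (π ⁻¹ᵁ W) ⊤ hle ≫ (Scheme.ΓSpecIso _).hom = CommRingCat.ofHom Polynomial.C := by
      have hle2 : (⊤ : (Spec (CommRingCat.of (Polynomial Γ(X, W)))).Opens) ≤
          (Spec.map (CommRingCat.ofHom (Polynomial.C (R := Γ(X, W))))) ⁻¹ᵁ (hW.fromSpec ⁻¹ᵁ W) := fun Q _ =>
        hW.range_fromSpec.le ⟨_, rfl⟩
      have key : ∀ (q q' : Spec (CommRingCat.of (Polynomial Γ(X, W))) ⟶ X) (_ : q = q') (h) (h'),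
          q.appLE W ⊤ h = q'.appLE W ⊤ h' := by
        rintro q _ rfl h h'; rfl
      rw [← Category.assoc, ← Scheme.Hom.comp_appLE, key _ _ hj _ hle2, Scheme.Hom.comp_appLE,
        hW.fromSpec_app_self, Category.assoc, Category.assoc, Scheme.Hom.map_appLE_assoc]
      refine Eq.trans (congrArg (fun φ => (Scheme.ΓSpecIso _).inv ≫ φ ≫ (Scheme.ΓSpecIso _).hom)
        (show Scheme.Hom.appLE (Spec.map (CommRingCat.ofHom Polynomial.C)) ⊤ ⊤ _ = Scheme.Hom.appTop _ from Scheme.Hom.appLE_eq_app _)) ?_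
      rw [Scheme.ΓSpecIso_naturality, Iso.inv_hom_id_assoc]
    exact ConcreteCategory.congr_hom h1 a
  let I := {W : X.Opens // IsAffineOpen W ∧ (W : Set X).Nonempty ∧ W ≤ Z}
  choose a ha using fun W : I => haff W.1 W.2.1 W.2.2.1 (PicLib.res (π.preimage_mono W.2.2.2) u) (hu.map _)
  have hcov : Z ≤ ⨆ W : I, W.1 := fun x hx => by
    obtain ⟨W, hW, hxW, hWZ⟩ := exists_isAffineOpen_mem_and_subset hx
    exact Opens.mem_iSup.2 ⟨⟨W, hW, ⟨x, hxW⟩, hWZ⟩, hxW⟩
  obtain ⟨b, hb⟩ := (TopCat.Sheaf.existsUnique_gluing' X.sheaf (fun W : I => W.1) Z (fun W => homOfLE W.2.2.2)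
    hcov a fun W W' => by
      refine app_injective π σ hσ _ ?_
      show π.app _ (PicLib.res inf_le_left (a W)) = π.app _ (PicLib.res inf_le_right (a W'))
      rw [hres, hres, ha, ha]
      exact (PicLib.res_res _ _ _).trans (PicLib.res_res _ _ _).symm).exists
  refine ⟨b, ?_⟩
  refine TopCat.Sheaf.eq_of_locally_eq' (𝔸(PUnit.{u + 1}; X)).sheaf (fun W : I => π ⁻¹ᵁ W.1) (π ⁻¹ᵁ Z)
    (fun W => homOfLE (π.preimage_mono W.2.2.2)) (fun z hz => ?_) _ _ fun W => ?_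
  · obtain ⟨W, hW⟩ := Opens.mem_iSup.1 (hcov hz)
    exact Opens.mem_iSup.2 ⟨W, hW⟩
  · show PicLib.res _ (π.app Z b) = PicLib.res _ u
    rw [← hres W.2.2.2, show PicLib.res W.2.2.2 b = a W from hb W, ha]

/-- Every class on the affine line over a seminormal integral variety comes from the base. -/
theorem exists_pull_affineLine [IsLocallyNoetherian X] (hX : HTop.IsSeminormal X)
    (c : PicM 𝔸(PUnit.{u + 1}; X)) : ∃ d : PicM X, PicM.pull (𝔸(PUnit.{u + 1}; X) ↘ X) d = c := by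
  obtain ⟨L, hL, rfl⟩ := c.exists_eq_of
  let π := 𝔸(PUnit.{u + 1}; X) ↘ X
  let σ : X ⟶ 𝔸(PUnit.{u + 1}; X) := AffineSpace.homOfVector (𝟙 X) fun _ => 0
  have hσ : σ ≫ π = 𝟙 X := AffineSpace.homOfVector_over _ _
  refine exists_pull_eq π σ hσ hL (fun x => ?_) (exists_app_eq_of_isUnit σ hσ)
  obtain ⟨⟨V, hV⟩, hxV, hsn⟩ := hX x
  haveI : Nonempty V := ⟨⟨x, hxV⟩⟩
  haveI := IsLocallyNoetherian.component_noetherian (X := X) ⟨V, hV⟩
  obtain ⟨j, _, hj, hjr⟩ := exists_chart_polynomial (X := X) hV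
  let L' := (Scheme.Modules.pullback j).obj L
  have hL' : PicF.IsInvertible L' := PicLoc.isInvertible_pullback j hL
  haveI := isQCoh_of_isInvertible hL'
  letI : Module (Polynomial Γ(X, V)) Γ(L', ⊤) :=
    Scheme.Modules.instModuleCarrierCarrierObjOppositeOpensCarrierCarrierCommRingCatSpecAbPresheafOp
      (R := CommRingCat.of (Polynomial Γ(X, V))) (M := L')
  haveI : IsNoetherianRing (CommRingCat.of (Polynomial Γ(X, V))) := inferInstanceAs (IsNoetherianRing (Polynomial Γ(X, V)))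
  haveI : Module.Invertible (Polynomial Γ(X, V)) Γ(L', ⊤) := invertible_sections L' hL'
  let p : PrimeSpectrum Γ(X, V) := hV.primeIdealOf ⟨x, hxV⟩
  obtain ⟨f, hf, t, ht⟩ := exists_genAt hsn Γ(L', ⊤) p.asIdeal
  have hgen := (le_glocus_iff t _).1 (UPLib.le_glocus_of_genAt (L := L') t (Polynomial.C f) ht)
  refine ⟨X.basicOpen f, ?_, ?_⟩
  · rw [← hV.fromSpec_image_basicOpen]
    exact ⟨p, hf, hV.fromSpec_primeIdealOf ⟨x, hxV⟩⟩
  have hpre : j ⁻¹ᵁ (π ⁻¹ᵁ X.basicOpen f) = specBasicOpen (Polynomial.C f) := by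
    rw [← Scheme.Hom.comp_preimage, hj, Scheme.Hom.comp_preimage, hV.fromSpec_preimage_basicOpen]
    rfl
  have hle : π ⁻¹ᵁ X.basicOpen f ≤ j.opensRange := (π.preimage_mono (X.basicOpen_le f)).trans hjr.ge
  obtain ⟨s, hs⟩ := (bijective_pullSec_opensRange j hL _ hle).2
    (resM L' (le_top : j ⁻¹ᵁ (π ⁻¹ᵁ X.basicOpen f) ≤ ⊤) t)
  refine ⟨s, AmpleLib.isGen_of_pullSec j hL hle ?_⟩
  rw [hs]
  have := hgen.restrict hpre.le
  rw [resM_resM] at this
  exact this

end Groth.Agent.PicA1S27
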